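import Groth.Agent.Lib.CurveTwist13.Point
import Groth.Agent.Lib.CurveCoh17.GenusBC
import Groth.Agent.Lib.WeierModel17.Point
import Groth.Agent.S7613

/-!
# Over a separably closed field a twist from the base has one section and no `H¹`
-/

set_option autoImplicit false
set_option linter.style.haveILetI false
set_option backward.isDefEq.respectTransparency false
set_option maxHeartbeats 800000

universe u

open CategoryTheory CategoryTheory.Limits AlgebraicGeometry TopologicalSpace Opposite

namespace Groth.Agent.CurveTwist13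

open Groth.Agent.CurveCoh17

attribute [local instance] Curv2.resAlgebra

variable {k : Type u} [Field k] {X : Scheme.{u}} [X.Over (Spec (CommRingCat.of k))]
  [IsProper (X ↘ Spec (CommRingCat.of k))] [Smooth (X ↘ Spec (CommRingCat.of k))] [IsIntegral X]
  {K : Type u} [Field K] [Algebra k K] {XK : Scheme.{u}} [XK.Over (Spec (CommRingCat.of K))]
  [IsProper (XK ↘ Spec (CommRingCat.of K))] [Smooth (XK ↘ Spec (CommRingCat.of K))] [IsIntegral XK]
  {g : XK ⟶ X}
  (hpb : IsPullback g (XK ↘ Spec (CommRingCat.of K)) (X ↘ Spec (CommRingCat.of k))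
    (Spec.map (CommRingCat.ofHom (algebraMap k K))))
  (hdim : topologicalKrullDim X = 1) (hdimK : topologicalKrullDim XK = 1)

include hpb hdim hdimK in
/-- A rational point of the base gives a class of degree `-1` that lowers `h⁰` where a section is nonzero. -/
theorem point_twist (σ : Spec (CommRingCat.of k) ⟶ X) (hσ : σ ≫ (X ↘ Spec (CommRingCat.of k)) = 𝟙 _) :
    ∃ J : X.Modules, PicF.IsInvertible J ∧ Curv2.deg K XK ((Scheme.Modules.pullback g).obj J) 1 = -1 ∧
      ∀ (L : XK.Modules), PicF.IsInvertible L → ∀ z : Coh.HH XK L 0,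
        (∀ x : XK, g x = σ (IsLocalRing.closedPoint k) → Amp.Gen (Amp.gm L x (U := ⊤) trivial (hh0 L z))) →
        Module.finrank K (Coh.HH XK L 0) =
          Module.finrank K (Coh.HH XK (CohB1.tensorMod L ((Scheme.Modules.pullback g).obj J)) 0) + 1 := by
  haveI : IsNoetherian X := (CurveAmple18.curveLike k X hdim.le).noetherian
  haveI : IsNoetherian XK := (CurveAmple18.curveLike K XK hdimK.le).noetherian
  let s := Spec.map (CommRingCat.ofHom (algebraMap k K))
  let σK : Spec (CommRingCat.of K) ⟶ XK := hpb.lift (s ≫ σ) (𝟙 _) (by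
    rw [Category.assoc, hσ, Category.comp_id, Category.id_comp])
  have hσK : σK ≫ (XK ↘ Spec (CommRingCat.of K)) = 𝟙 _ := hpb.lift_snd _ _ _
  have hσKg : σK ≫ g = s ≫ σ := hpb.lift_fst _ _ _
  obtain ⟨hP, hker, hres⟩ := ker_section σ hσ
  obtain ⟨hQ, hkerK, hresK⟩ := ker_section σK hσK
  haveI := GeomRed.isRegularLocalRing_of_mem_smoothLocus (k := k) (X := X) (x := σ (IsLocalRing.closedPoint k))
    (by rw [Scheme.Hom.smoothLocus_eq_top]; trivial)
  haveI := GeomRed.isRegularLocalRing_of_mem_smoothLocus (k := K) (X := XK) (x := σK (IsLocalRing.closedPoint K))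
    (by rw [Scheme.Hom.smoothLocus_eq_top]; trivial)
  have hJ := CurveAmple18.isInvertible_pointIdeal_at hdim hP
  have hJK := CurveAmple18.isInvertible_pointIdeal_at hdimK hQ
  haveI := CurveCartier25.isClosedImmersion_section _ σ hσ
  have hcomap : σ.ker.comap g = σK.ker := CurveCartier25.comap_ker_section hpb σ σK hσ hσK hσKg
  have heK : BlowUp.IsEffCartierIdeal (σK.ker) := by
    rw [hkerK]; exact SecDiv.isEffCartierIdeal_of_isInvertible _ hJK
  have heX : BlowUp.IsEffCartierIdeal (σ.ker) := by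
    rw [hker]; exact SecDiv.isEffCartierIdeal_of_isInvertible _ hJ
  obtain ⟨e⟩ := nonempty_pullback_idealMod_iso g heX (by rw [hcomap]; exact heK)
  rw [hcomap, hker, hkerK] at e
  refine ⟨_, hJ, (deg_iso e).trans (deg_pointIdeal_rational hdimK hQ hresK), fun L hL z hz => ?_⟩
  rw [(hequiv K (M2.tensorIso (Iso.refl L) e) 0).finrank_eq]
  refine finrank_twist_rational hdimK.le hL hQ hresK (hz _ ?_)
  have := congrArg (fun f => f (IsLocalRing.closedPoint K)) hσKg
  simp only [Scheme.Hom.comp_apply] at this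
  rw [this]
  exact congrArg σ (Subsingleton.elim (α := Spec (CommRingCat.of k)) _ _)

include hpb hdim hdimK in
theorem exists_twist [IsSepClosed k] (h0X : Module.finrank K (Coh.HH XK (Coh.structureModule XK) 0) = 1)
    (L : XK.Modules) (hL : PicF.IsInvertible L) :
    ∃ L₀ : X.Modules, PicF.IsInvertible L₀ ∧
      Module.finrank K (Coh.HH XK (CohB1.tensorMod L ((Scheme.Modules.pullback g).obj L₀)) 0) = 1 ∧
      Subsingleton (Coh.HH XK (CohB1.tensorMod L ((Scheme.Modules.pullback g).obj L₀)) 1) := by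
  have hX := CurveAmple18.curveLike K XK hdimK.le
  haveI := hX.noetherian
  let F := fun L₀ : X.Modules => CohB1.tensorMod L ((Scheme.Modules.pullback g).obj L₀)
  have hF : ∀ {L₀ : X.Modules}, PicF.IsInvertible L₀ → PicF.IsInvertible (F L₀) := fun h =>
    M2.isInvertible_tensor hL (PicLoc.isInvertible_pullback g h)
  have hFmul : ∀ L₀ J : X.Modules,
      Nonempty (F (CohB1.tensorMod L₀ J) ≅ CohB1.tensorMod (F L₀) ((Scheme.Modules.pullback g).obj J)) :=
    fun L₀ J => ⟨M2.tensorIso (Iso.refl L) (M2.pullTensorIso g L₀ J) ≪≫ (M2.tensorAssoc _ _ _).symm⟩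
  -- twist down to one section
  have down : ∀ n : ℕ, ∀ L₀ : X.Modules, PicF.IsInvertible L₀ → Subsingleton (Coh.HH XK (F L₀) 1) →
      Module.finrank K (Coh.HH XK (F L₀) 0) = n + 1 →
      ∃ L₀ : X.Modules, PicF.IsInvertible L₀ ∧ Module.finrank K (Coh.HH XK (F L₀) 0) = 1 ∧
        Subsingleton (Coh.HH XK (F L₀) 1) := by
    intro n
    induction n with
    | zero => exact fun L₀ h h1 h0 => ⟨L₀, h, h0, h1⟩
    | succ n ih =>
      intro L₀ h h1 h0
      haveI : Nontrivial (Coh.HH XK (F L₀) 0) := Module.nontrivial_of_finrank_eq_succ h0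
      obtain ⟨z, hz⟩ := exists_ne (0 : Coh.HH XK (F L₀) 0)
      have hfin := (finite_vanishing (k := K) hdimK.le (hF h) hz).image g
      -- an open of `X` avoiding the closed points under the zeros
      haveI : IsNoetherian X := (CurveAmple18.curveLike k X hdim.le).noetherian
      have hBclosed : IsClosed ((g '' {x | ¬ Amp.Gen (Amp.gm (F L₀) x (U := ⊤) trivial (hh0 (F L₀) z))}) \
          {genericPoint X}) := by
        rw [← Set.biUnion_of_singleton (_ \ _)]
        exact (hfin.subset Set.diff_subset).isClosed_biUnion fun y hy => Curve17.isClosed_singleton hdim.le hy.2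
      let B : Set X := g '' {x | ¬ Amp.Gen (Amp.gm (F L₀) x (U := ⊤) trivial (hh0 (F L₀) z))}
      let U : X.Opens := ⟨(B \ {genericPoint X})ᶜ, hBclosed.isOpen_compl⟩
      obtain ⟨σ, hσ, hσU⟩ := exists_section_mem (k := k) U ⟨genericPoint X, fun hb => hb.2 rfl⟩
      obtain ⟨hP, -, -⟩ := ker_section σ hσ
      obtain ⟨J, hJ, hdeg, hdrop⟩ := point_twist hpb hdim hdimK σ hσ
      obtain ⟨e⟩ := hFmul L₀ J
      have hav : ∀ x : XK, g x = σ (IsLocalRing.closedPoint k) →
          Amp.Gen (Amp.gm (F L₀) x (U := ⊤) trivial (hh0 (F L₀) z)) := fun x hx => by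
        by_contra hcon
        exact hσU ⟨⟨x, hcon, hx⟩, (genericPoint_ne_of_isClosed hdim hP).symm⟩
      have e1 := hdrop (F L₀) (hF h) z hav
      have hinv := M2.isInvertible_tensor h hJ
      have r1 := hX.rr (isCoh_of_ofRank ((M2.isInvertible_iff_isFinLocFreeOfRank_one _).1 (hF h)))
      have hc := isCoh_of_ofRank ((M2.isInvertible_iff_isFinLocFreeOfRank_one _).1 (hF hinv))
      have r2 := hX.rr hc
      rw [deg_iso e, hX.deg_tensor_invertible (hF h) (PicLoc.isInvertible_pullback g hJ), hdeg,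
        (hequiv K e 0).finrank_eq] at r2
      rw [Module.finrank_zero_of_subsingleton (M := Coh.HH XK (F L₀) 1)] at r1
      have h0' : Module.finrank K (Coh.HH XK (F (CohB1.tensorMod L₀ J)) 0) = n + 1 := by
        rw [(hequiv K e 0).finrank_eq]; omega
      haveI := hX.fin _ hc 1
      have hH : Module.finrank K (Coh.HH XK (F (CohB1.tensorMod L₀ J)) 1) = 0 := by omega
      exact ih _ hinv (Module.finrank_zero_iff.1 hH) h0'
  -- twist up to large degree
  obtain ⟨σ₀, hσ₀, -⟩ := exists_section_mem (k := k) (X := X) ⊤ ⟨genericPoint X, trivial⟩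
  obtain ⟨J, hJ, hdegJ, -⟩ := point_twist hpb hdim hdimK σ₀ hσ₀
  obtain ⟨D, hD, ⟨eD⟩⟩ := M2.exists_inverse hJ
  have hdegD : Curv2.deg K XK ((Scheme.Modules.pullback g).obj D) 1 = 1 := by
    rw [hX.deg_of_tensor_iso (PicLoc.isInvertible_pullback g hJ) (PicLoc.isInvertible_pullback g hD)
      ((M2.pullTensorIso g J D).symm ≪≫ (Scheme.Modules.pullback g).mapIso eD ≪≫ Twist.pullbackUnitIso g), hdegJ]
    norm_num
  have up : ∀ m : ℕ, ∃ L₀ : X.Modules, PicF.IsInvertible L₀ ∧
      Curv2.deg K XK (F L₀) 1 = Curv2.deg K XK L 1 + m := by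
    intro m
    induction m with
    | zero =>
      refine ⟨Coh.structureModule X, PicLoc.isInvertible_structureModule X, ?_⟩
      rw [deg_iso (M2.tensorIso (Iso.refl L) (Twist.pullbackUnitIso g) ≪≫ M2.tensorRUnit L : F _ ≅ L)]
      simp
    | succ m ih =>
      obtain ⟨L₀, h, hd⟩ := ih
      obtain ⟨e⟩ := hFmul L₀ D
      refine ⟨_, M2.isInvertible_tensor h hD, ?_⟩
      rw [deg_iso e, hX.deg_tensor_invertible (hF h) (PicLoc.isInvertible_pullback g hD), hd, hdegD]
      push_cast
      ring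
  obtain ⟨L₀, h, hd⟩ := up (2 * (Curv2.genus K XK : ℤ) - Curv2.deg K XK L 1).toNat
  have h1 := hX.h1_subsingleton_of_deg (rkOne_of_invertible hdimK.le (hF h)) h0X (by omega)
  have hrr := hX.rr (isCoh_of_ofRank ((M2.isInvertible_iff_isFinLocFreeOfRank_one _).1 (hF h)))
  rw [Module.finrank_zero_of_subsingleton (M := Coh.HH XK (F L₀) 1), h0X] at hrr
  exact down (Module.finrank K (Coh.HH XK (F L₀) 0) - 1) L₀ h h1 (by omega)

end Groth.Agent.CurveTwist13
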