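import Groth.Agent.Lib.CurveTwist13.PullIdeal
import Groth.Agent.Lib.CurveAmple18.PointTwist
import Groth.Agent.Lib.CurveCoh17.P1Apps
import Groth.Agent.Lib.CurveCartier25.Split
import Groth.Agent.Lib.SecDiv18.Basic
import Groth.Agent.Lib.Curve17.Basic
import Groth.Agent.Lib.CurveLocus.GeomFibre

/-!
# Twisting a smooth curve by rational points, before and after extending the base field
-/

set_option autoImplicit false
set_option linter.style.haveILetI false
set_option backward.isDefEq.respectTransparency false
set_option maxHeartbeats 800000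

universe u

open CategoryTheory CategoryTheory.Limits AlgebraicGeometry TopologicalSpace Opposite

namespace Groth.Agent.CurveTwist13

open Groth.Agent.CurveCoh17
open Groth.Agent.M1 (secHom)

attribute [local instance] Curv2.resAlgebra

variable {k : Type u} [Field k] {X : Scheme.{u}} [X.Over (Spec (CommRingCat.of k))]

/-- The image of a section is a closed point whose ideal is the kernel of the section. -/
theorem ker_section [IsSeparated (X ↘ Spec (CommRingCat.of k))] (σ : Spec (CommRingCat.of k) ⟶ X)
    (hσ : σ ≫ (X ↘ Spec (CommRingCat.of k)) = 𝟙 _) :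
    ∃ hP : IsClosed ({σ (IsLocalRing.closedPoint k)} : Set X),
      σ.ker = Scheme.IdealSheafData.vanishingIdeal (⟨{σ (IsLocalRing.closedPoint k)}, hP⟩ : Closeds X) ∧
      Module.finrank k (X.residueField (σ (IsLocalRing.closedPoint k))) = 1 := by
  obtain ⟨hP, hres⟩ := section_point_props σ hσ
  refine ⟨hP, ?_, hres⟩
  rw [RedSepLib.ker_eq_vanishingIdeal]
  congr 1
  refine Closeds.ext ?_
  show closure (Set.range σ) = {σ (IsLocalRing.closedPoint k)}
  have : Set.range σ = {σ (IsLocalRing.closedPoint k)} := by
    refine Set.Subset.antisymm ?_ (by rintro _ rfl; exact ⟨_, rfl⟩)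
    rintro _ ⟨w, rfl⟩
    exact congrArg _ (Subsingleton.elim (α := Spec (CommRingCat.of k)) _ _)
  rw [this, hP.closure_eq]

/-- Over a separably closed field a smooth scheme has sections through every nonempty open. -/
theorem exists_section_mem [IsSepClosed k] [Smooth (X ↘ Spec (CommRingCat.of k))] (U : X.Opens)
    (hU : (U : Set X).Nonempty) :
    ∃ σ : Spec (CommRingCat.of k) ⟶ X, σ ≫ (X ↘ Spec (CommRingCat.of k)) = 𝟙 _ ∧
      σ (IsLocalRing.closedPoint k) ∈ U := by
  obtain ⟨x, hx⟩ := hU
  haveI : Smooth (U.ι ≫ (X ↘ Spec (CommRingCat.of k))) := inferInstance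
  obtain ⟨y, hy, -, hfin, hsep⟩ := GeomRed.exists_separable_point (k := k) U hx
  haveI := hfin
  haveI := hsep
  letI := Curv2.resAlgebra k X y
  let e : k ≃+* X.residueField y :=
    RingEquiv.ofBijective (algebraMap k (X.residueField y)) (IsSepClosed.algebraMap_bijective k (X.residueField y))
  refine ⟨Spec.map (CommRingCat.ofHom e.symm.toRingHom) ≫ X.fromSpecResidueField y, ?_, ?_⟩
  · rw [Category.assoc, ← GeomIrr.spec_resMap, ← Spec.map_comp, ← CommRingCat.ofHom_comp,
      show e.symm.toRingHom.comp (Curv2.resMap k X y) = RingHom.id k from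
        RingHom.ext fun c => e.symm_apply_apply c, CommRingCat.ofHom_id, Spec.map_id]
  · rw [Scheme.Hom.comp_apply]
    refine (congrArg (· ∈ U) (Scheme.fromSpecResidueField_apply y _)).mpr hy

variable [IsProper (X ↘ Spec (CommRingCat.of k))]

/-- The ideal of a rational point has degree `-1`. -/
theorem deg_pointIdeal_rational [IsIntegral X] (hdim : topologicalKrullDim X = 1) {P : X}
    (hP : IsClosed ({P} : Set X)) (hres : Module.finrank k (X.residueField P) = 1) :
    Curv2.deg k X (ClSub.idealMod (Scheme.IdealSheafData.vanishingIdeal (⟨{P}, hP⟩ : Closeds X))) 1 = -1 := by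
  have hX := CurveAmple18.curveLike k X hdim.le
  haveI := hX.noetherian
  set Z := Scheme.IdealSheafData.vanishingIdeal (⟨{P}, hP⟩ : Closeds X)
  obtain ⟨-, -, hd⟩ := hX.twist_data (PicLoc.isInvertible_structureModule X) Z (by
    rw [show (Z.support : Set X) = {P} by simp [Z]]
    exact topologicalKrullDim_zero_of_discreteTopology _)
  rw [deg_iso (M2.tensorRUnit _), deg_structureModule, finrank_quotMod_point (k := k) hP, hres] at hd
  simpa using hd

/-- Twisting down by a rational point where a section does not vanish lowers `h⁰` by one. -/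
theorem finrank_twist_rational (hdim : topologicalKrullDim X ≤ 1) {L : X.Modules}
    (hL : PicF.IsInvertible L) {P : X} (hP : IsClosed ({P} : Set X))
    (hres : Module.finrank k (X.residueField P) = 1) {z : Coh.HH X L 0}
    (hg : Amp.Gen (Amp.gm L P (U := ⊤) trivial (hh0 L z))) :
    Module.finrank k (Coh.HH X L 0) = Module.finrank k (Coh.HH X (CohB1.tensorMod L
      (ClSub.idealMod (Scheme.IdealSheafData.vanishingIdeal (⟨{P}, hP⟩ : Closeds X)))) 0) + 1 := by
  have hX := CurveAmple18.curveLike k X hdim
  obtain ⟨h1, h2⟩ := finrank_twist_point hX hL hP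
  rw [hres] at h1
  haveI := hX.noetherian
  haveI := hX.fin L (isCoh_of_ofRank ((M2.isInvertible_iff_isFinLocFreeOfRank_one L).1 hL)) 0
  have hne := (atPoint_ne_zero_iff (k := k) hL hP).2
    ⟨hh0 L z, top_le_iff.1 fun a _ => Submodule.mem_span_singleton.2 (hg.2 a)⟩
  have : 0 < Module.finrank k (LinearMap.range (atPoint k hP L)) :=
    Module.finrank_pos_iff.2 (Submodule.nontrivial_iff_ne_bot.2 (by rwa [ne_eq, LinearMap.range_eq_bot]))
  omega

include k in
/-- A nonzero section vanishes at finitely many points only. -/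
theorem finite_vanishing [IsIntegral X] (hdim : topologicalKrullDim X ≤ 1) {L : X.Modules}
    (hL : PicF.IsInvertible L) {z : Coh.HH X L 0} (hz : z ≠ 0) :
    {x : X | ¬ Amp.Gen (Amp.gm L x (U := ⊤) trivial (hh0 L z))}.Finite := by
  have hX := CurveAmple18.curveLike k X hdim
  haveI := hX.noetherian
  let φ := secHom (hh0 L z)
  have hset : {x : X | ¬ Amp.Gen (Amp.gm L x (U := ⊤) trivial (hh0 L z))} = (CohB1.genLocus L φ : Set X)ᶜ := by
    ext x
    rw [Set.mem_compl_iff, SetLike.mem_coe, Amp.mem_genLocus_iff hL, Amp.gval_secHom]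
    rfl
  rw [hset]
  refine Curve17.finite_of_isClosed hdim (CohB1.genLocus L φ).2.isClosed_compl fun h => ?_
  have hg : genericPoint X ∈ CohB1.genLocus L φ :=
    (Amp.mem_genLocus_iff hL _).2 (by rw [Amp.gval_secHom]; exact span_germ_genericPoint hL (hh0_ne_zero hz))
  exact (h.ge (Set.mem_univ (genericPoint X))) hg

end Groth.Agent.CurveTwist13
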