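import Groth.Agent.Lib.DMon9.Pull
import Groth.Agent.Lib.Twist.Gen
import Groth.Agent.Lib.EffCartier.Basic
import Groth.Agent.Lib.TensorMod.IdealMod
import Groth.Agent.Lib.ParaFDesc27.PicDescent

/-!
# The pullback of the ideal of an effective Cartier divisor is the ideal of its preimage
-/

set_option autoImplicit false
set_option linter.style.haveILetI false
set_option backward.isDefEq.respectTransparency false
set_option maxHeartbeats 800000

universe u

open CategoryTheory CategoryTheory.Limits AlgebraicGeometry TopologicalSpace Opposite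
open scoped nonZeroDivisors

namespace Groth.Agent.CurveTwist13

variable {X Y : Scheme.{u}}

/-- `g^* O(-D) ≅ O(-g^{-1}D)` when both divisors are effective Cartier. -/
theorem nonempty_pullback_idealMod_iso (f : Y ⟶ X) {I : X.IdealSheafData} (hI : BlowUp.IsEffCartierIdeal I)
    (hJ : BlowUp.IsEffCartierIdeal (I.comap f)) :
    Nonempty ((Scheme.Modules.pullback f).obj (ClSub.idealMod I) ≅ ClSub.idealMod (I.comap f)) := by
  let J := I.comap f
  let φ : (Scheme.Modules.pullback f).obj (ClSub.idealMod I) ⟶ Coh.structureModule Y :=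
    (Scheme.Modules.pullback f).map (ClSub.idealModι I) ≫ (DMon9.pullOne f).hom
  -- local generators and their images
  have hloc : ∀ y : Y, ∃ (V : Y.affineOpens) (g : Γ((Scheme.Modules.pullback f).obj (ClSub.idealMod I), V.1))
      (a : Γ(Y, V.1)), y ∈ V.1 ∧ Twist.IsGen _ V.1 g ∧ EffCartier.IsEqn J V a ∧ φ.app V.1 g = a := by
    intro y
    obtain ⟨U, hyU, a, ha⟩ := EffCartier.isEffCartierIdeal_iff.1 hI (f y)
    obtain ⟨V, hyV, hVU, c, hc⟩ := EffCartier.exists_isEqn hJ (show y ∈ f ⁻¹ᵁ U.1 from hyU)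
    obtain ⟨b, hb⟩ := (M2.range_idealIncl I U).ge (show a ∈ (I.ideal U : Set Γ(X, U.1)) by
      rw [ha.ideal_eq]; exact Ideal.mem_span_singleton_self a)
    have hgen : Twist.IsGen (ClSub.idealMod I) U.1 b := M2.isGenerator_idealMod I a ha.mem ha.ideal_eq b hb
    have hmem : f.appLE U.1 V.1 hVU a ∈ Γ(Y, V.1)⁰ := by
      have h := EffCartier.comap_ideal_eq_span ha f V hVU
      rw [hc.ideal_eq] at h
      obtain ⟨r, hr⟩ := Ideal.mem_span_singleton'.1 (h.le (Ideal.mem_span_singleton_self c))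
      have := hc.mem
      rw [← hr] at this
      exact (mul_mem_nonZeroDivisors.1 this).2
    refine ⟨V, M1.mres _ hVU (M2.pullSec f _ b), f.appLE U.1 V.1 hVU a, hyV, (hgen.pullback f).mres hVU,
      ⟨hmem, EffCartier.comap_ideal_eq_span ha f V hVU⟩, ?_⟩
    rw [M1.app_mres]
    have h2 : φ.app (f ⁻¹ᵁ U.1) (M2.pullSec f _ b) = f.app U.1 a := by
      refine (DMon9.comp_app_apply _ _ _ _).trans ?_
      rw [DMon9.pull_map_pullSec]
      refine (DMon9.pullOne_pullSec f _).trans ?_
      exact congrArg (f.app U.1) hb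
    rw [h2]
    rfl
  choose V g a hyV hg hEq hga using hloc
  have h0 : φ ≫ ClSub.toSubscheme J = 0 := by
    refine Scheme.Modules.hom_ext _ _ fun O => ?_
    ext s
    refine M1.modules_eq_of_locally_eq _ O (fun x : O => O ⊓ (V x.1).1) (fun x => inf_le_left)
      (fun x hx => Opens.mem_iSup.2 ⟨⟨x, hx⟩, hx, hyV x⟩) _ _ fun x => ?_
    refine ((M1.map_app_eq (φ ≫ ClSub.toSubscheme J) inf_le_left s).symm.trans ?_).trans (map_zero _).symm
    obtain ⟨r, hr⟩ := (hg x.1 (O ⊓ (V x.1).1) inf_le_right).2 (M1.mres _ (inf_le_left : O ⊓ (V x.1).1 ≤ O) s)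
    erw [← hr, Scheme.Modules.Hom.app_smul, M1.app_mres]
    have hz : (φ ≫ ClSub.toSubscheme J).app (V x.1).1 (g x.1) = 0 := by
      refine (DMon9.comp_app_apply _ _ _ _).trans ?_
      rw [hga]
      change J.subschemeι.app (V x.1).1 (a x.1) = 0
      have hm : a x.1 ∈ J.ideal (V x.1) := by rw [(hEq x.1).ideal_eq]; exact Ideal.mem_span_singleton_self _
      rw [← J.ker_subschemeι, Scheme.Hom.ker_apply] at hm
      exact RingHom.mem_ker.mp hm
    erw [hz, map_zero, smul_zero]
  let ψ : (Scheme.Modules.pullback f).obj (ClSub.idealMod I) ⟶ ClSub.idealMod J := kernel.lift _ φ h0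
  have hψ : ψ ≫ ClSub.idealModι J = φ := kernel.lift_ι _ _ _
  haveI : IsIso ψ := by
    refine ParaFDesc27.isIso_of_gens ψ fun y => ⟨(V y).1, g y, hyV y, hg y, ?_⟩
    refine M2.isGenerator_idealMod J (a y) (hEq y).mem (hEq y).ideal_eq _ ?_
    have := congrArg (fun χ => χ.app (V y).1 (g y)) hψ
    exact this.trans (hga y)
  exact ⟨asIso ψ⟩

end Groth.Agent.CurveTwist13
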